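import Cfsg.Agent.H109.EndPsl
import Cfsg.Agent.S0799
import Cfsg.Agent.H301.SY.Base
import Cfsg.Agent.ClassicalGeometry.PSL2Solvable
import Cfsg.Agent.H394.SqPsl2

/-!
# Solvable subgroups of `PSL₂(q)` (helper947, for S3846)

* `shape` : a solvable subgroup of `PSL₂(q)` of order divisible by a prime `≥ 5` has a nontrivial normal Sylow
  `l`-subgroup (`q` a power of `l`), or is abelian or dihedral;
* `exists_borel` : the normaliser of a nontrivial `l`-subgroup lies in a Borel subgroup.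
-/

set_option autoImplicit false
set_option linter.unusedSectionVars false

namespace Cfsg.Agent.H947.Sy

open Subgroup Cfsg Matrix
open Cfsg.Agent.BpLin Cfsg.Agent.LieClassical.SLTwoUnipotent Cfsg.Agent.ClassicalGeometry.PSL2Solvable
open Cfsg.Agent.ClassicalGeometry.AutPSL.Root Cfsg.Agent.ClassicalGeometry.AutPSL.Auto
  Cfsg.Agent.ClassicalGeometry.AutPSL.Main Cfsg.Agent.H109.EndPsl

section Defs

variable {G : Type*} [Group G]

/-- a nontrivial normal Sylow `l`-subgroup -/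
def ShU (l : ℕ) (H : Subgroup G) : Prop :=
  ∃ Q : Subgroup G, Q ≠ ⊥ ∧ Q ≤ H ∧ IsPGroup l Q ∧ (∀ h ∈ H, ∀ a ∈ Q, h * a * h⁻¹ ∈ Q) ∧
    ∀ h ∈ H, (∃ k : ℕ, h ^ l ^ k = 1) → h ∈ Q

/-- abelian or dihedral -/
def ShD (H : Subgroup G) : Prop :=
  ∃ A : Subgroup G, A ≤ H ∧ (∀ a ∈ A, ∀ b ∈ A, a * b = b * a) ∧ (∀ h ∈ H, h ^ 2 ≠ 1 → h ∈ A) ∧
    ∀ h ∈ H, h ∉ A → ∀ a ∈ A, h * a * h⁻¹ = a⁻¹

theorem ShD.of_comm {H : Subgroup G} (h : ∀ a ∈ H, ∀ b ∈ H, a * b = b * a) : ShD H :=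
  ⟨H, le_rfl, h, fun _ hx _ => hx, fun _ hx hn => absurd hx hn⟩

theorem ShD.of_dihedral {H : Subgroup G} {k : ℕ} (e : H ≃* DihedralGroup k) : ShD H := by
  let A' : Subgroup H := (zpowers (DihedralGroup.r (1 : ZMod k))).comap e.toMonoidHom
  have hmem : ∀ h : H, h ∈ A' ↔ ∃ i : ZMod k, e h = DihedralGroup.r i := by
    intro h
    constructor
    · intro hh
      obtain ⟨z, hz⟩ := mem_zpowers_iff.1 (show e h ∈ zpowers (DihedralGroup.r (1 : ZMod k)) from hh)
      refine ⟨(z : ZMod k), ?_⟩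
      rw [← hz, DihedralGroup.r_one_zpow]
    · rintro ⟨i, hi⟩
      obtain ⟨z, rfl⟩ := ZMod.intCast_surjective i
      show e h ∈ zpowers (DihedralGroup.r (1 : ZMod k))
      rw [hi]
      exact mem_zpowers_iff.2 ⟨z, DihedralGroup.r_one_zpow z⟩
  refine ⟨A'.map H.subtype, ?_, ?_, ?_, ?_⟩
  · rintro _ ⟨a, -, rfl⟩
    exact a.2
  · rintro _ ⟨a, ha, rfl⟩ _ ⟨b, hb, rfl⟩
    obtain ⟨i, hi⟩ := (hmem a).1 ha
    obtain ⟨j, hj⟩ := (hmem b).1 hb
    have h1 : a * b = b * a := by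
      apply e.injective
      rw [map_mul, map_mul, hi, hj, DihedralGroup.r_mul_r, DihedralGroup.r_mul_r, add_comm]
    exact congrArg Subtype.val h1
  · intro h hh h2
    refine ⟨⟨h, hh⟩, (hmem _).2 ?_, rfl⟩
    rcases hc : e ⟨h, hh⟩ with i | i
    · exact ⟨i, rfl⟩
    · exfalso
      apply h2
      have h3 : (⟨h, hh⟩ : H) ^ 2 = 1 := by
        apply e.injective
        rw [map_pow, hc, sq, DihedralGroup.sr_mul_self, map_one]
      exact congrArg Subtype.val h3
  · rintro h hh hn _ ⟨a, ha, rfl⟩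
    obtain ⟨i, hi⟩ := (hmem a).1 ha
    rcases hc : e ⟨h, hh⟩ with j | j
    · exact absurd ⟨⟨h, hh⟩, (hmem _).2 ⟨j, hc⟩, rfl⟩ hn
    · have h3 : (⟨h, hh⟩ : H) * a * (⟨h, hh⟩ : H)⁻¹ = a⁻¹ := by
        apply e.injective
        rw [map_mul, map_mul, map_inv, map_inv, hc, hi, DihedralGroup.inv_sr, DihedralGroup.sr_mul_r,
          DihedralGroup.sr_mul_sr, DihedralGroup.inv_r]
        congr 1
        ring
      exact congrArg Subtype.val h3

end Defs

section Borel

variable {F : Type*} [Field F]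

local notation "S2" => Matrix.SpecialLinearGroup (Fin 2) F
local notation "P2" => Matrix.ProjectiveSpecialLinearGroup (Fin 2) F

theorem pr_eq_iff {a b : S2} : (pr a : P2) = pr b ↔ b = a ∨ b = -a := by
  have h1 : (pr a : P2) = pr b ↔ a⁻¹ * b ∈ center S2 := QuotientGroup.eq
  rw [h1, Cfsg.Agent.ClassicalGeometry.PSL2Basic.mem_center_SL2_iff]
  constructor
  · rintro (h | h)
    · left; exact (inv_mul_eq_one.mp h).symm
    · right
      rw [inv_mul_eq_iff_eq_mul] at h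
      rw [h]; simp
  · rintro (h | h)
    · left; rw [h, inv_mul_cancel]
    · right; rw [h]; simp

/-- commutators of elements of the Borel subgroup -/
theorem commutator_borel {a b : S2} (ha : a ∈ borel F) (hb : b ∈ borel F) :
    a * b * a⁻¹ * b⁻¹ ∈ upperUnipSL F := by
  have key : ∀ c : S2, c ∈ borel F → (c : Matrix (Fin 2) (Fin 2) F) 0 0 * (c : Matrix (Fin 2) (Fin 2) F) 1 1 = 1 := by
    intro c hc
    have h1 : (c : Matrix (Fin 2) (Fin 2) F) 0 0 * (c : Matrix (Fin 2) (Fin 2) F) 1 1 -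
      (c : Matrix (Fin 2) (Fin 2) F) 0 1 * (c : Matrix (Fin 2) (Fin 2) F) 1 0 = 1 := by
      rw [← Matrix.det_fin_two, Matrix.SpecialLinearGroup.det_coe]
    rw [mem_borel_iff.mp hc, mul_zero, sub_zero] at h1
    exact h1
  have h0 : ∀ c d : S2, c ∈ borel F → d ∈ borel F →
      ((c * d : S2) : Matrix (Fin 2) (Fin 2) F) 0 0 = (c : Matrix (Fin 2) (Fin 2) F) 0 0 * (d : Matrix (Fin 2) (Fin 2) F) 0 0 := by
    intro c d hc hd
    rw [Matrix.SpecialLinearGroup.coe_mul, Matrix.mul_apply, Fin.sum_univ_two, mem_borel_iff.mp hd, mul_zero, add_zero]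
  have hi : ∀ c : S2, c ∈ borel F → ((c⁻¹ : S2) : Matrix (Fin 2) (Fin 2) F) 0 0 = (c : Matrix (Fin 2) (Fin 2) F) 1 1 := by
    intro c hc
    rw [Matrix.SpecialLinearGroup.coe_inv, Matrix.adjugate_fin_two]
    rfl
  have hm : a * b * a⁻¹ * b⁻¹ ∈ borel F :=
    (borel F).mul_mem ((borel F).mul_mem ((borel F).mul_mem ha hb) ((borel F).inv_mem ha)) ((borel F).inv_mem hb)
  have h00 : ((a * b * a⁻¹ * b⁻¹ : S2) : Matrix (Fin 2) (Fin 2) F) 0 0 = 1 := by
    rw [h0 _ _ ((borel F).mul_mem ((borel F).mul_mem ha hb) ((borel F).inv_mem ha)) ((borel F).inv_mem hb),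
      h0 _ _ ((borel F).mul_mem ha hb) ((borel F).inv_mem ha), h0 _ _ ha hb, hi _ ha, hi _ hb]
    have h1 := key a ha
    have h2 := key b hb
    linear_combination (b : Matrix (Fin 2) (Fin 2) F) 0 0 * (b : Matrix (Fin 2) (Fin 2) F) 1 1 * h1 + h2
  refine mem_upperUnipSL_iff.2 ⟨h00, mem_borel_iff.1 hm, ?_⟩
  have := key _ hm
  rwa [h00, one_mul] at this

theorem u_pow {l : ℕ} [CharP F l] (x : F) : (u x : S2) ^ l = 1 := by
  have h : ∀ n : ℕ, (u x : S2) ^ n = u (n * x) := by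
    intro n
    induction n with
    | zero => rw [pow_zero, Nat.cast_zero, zero_mul, u_zero]
    | succ n ih => rw [pow_succ, ih, ← u_add, Nat.cast_succ]; congr 1; ring
  rw [h, CharP.cast_eq_zero, zero_mul, u_zero]

variable [Fintype F]

/-- the standard Sylow subgroup -/
theorem exists_conj_sylow {l : ℕ} [Fact l.Prime] [CharP F l] (P : Sylow l P2) :
    ∃ g : P2, ∀ y : P2, y ∈ (P : Subgroup P2) ↔ g⁻¹ * y * g ∈ (upperUnipSL F).map (pr : S2 →* P2) := by
  obtain ⟨g, hg⟩ := MulAction.exists_smul_eq P2 ((upperUnipSylowSL F l).mapSurjective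
    (pr_surjective (F := F) (ι := Fin 2))) P
  refine ⟨g, fun y => ?_⟩
  rw [← hg, Sylow.coe_subgroup_smul, Sylow.coe_mapSurjective, Subgroup.mem_pointwise_smul_iff_inv_smul_mem]
  have : (MulAut.conj g)⁻¹ • y = g⁻¹ * y * g := by
    rw [← map_inv, MulAut.smul_def, MulAut.conj_apply, inv_inv]
  rw [this]
  rfl

/-- **The normaliser of a nontrivial `l`-subgroup lies in a Borel subgroup.** -/
theorem exists_borel {l : ℕ} [Fact l.Prime] [CharP F l] {Q : Subgroup P2} (hQ : Q ≠ ⊥) (hQl : IsPGroup l Q) :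
    ∃ g : S2, (∀ a ∈ Q, ∃ c : F, a = pr (g * u c * g⁻¹)) ∧
      ∀ h : P2, (∀ a ∈ Q, h * a * h⁻¹ ∈ Q) → ∃ b ∈ borel F, h = pr (g * b * g⁻¹) := by
  obtain ⟨P, hP⟩ := hQl.exists_le_sylow
  obtain ⟨g', hg'⟩ := exists_conj_sylow P
  obtain ⟨g, rfl⟩ := pr_surjective g'
  have h1 : ∀ a ∈ Q, ∃ c : F, a = pr (g * u c * g⁻¹) := by
    intro a ha
    obtain ⟨v, hv, hva⟩ := (hg' a).1 (hP ha)
    refine ⟨v 0 1, ?_⟩
    rw [← eq_u_of_mem_upperUnipSL hv, map_mul, map_mul, map_inv, hva]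
    group
  refine ⟨g, h1, fun h hh => ?_⟩
  obtain ⟨a, ha, ha1⟩ : ∃ a ∈ Q, a ≠ 1 := by
    by_contra hcon
    push Not at hcon
    exact hQ ((Subgroup.eq_bot_iff_forall _).2 hcon)
  obtain ⟨c, hc⟩ := h1 a ha
  obtain ⟨d, hd⟩ := h1 _ (hh a ha)
  obtain ⟨s, rfl⟩ := pr_surjective h
  refine ⟨g⁻¹ * s * g, ?_, by congr 1; group⟩
  have hc0 : u c ≠ (1 : S2) := by
    intro h2
    apply ha1
    rw [hc, h2, mul_one, mul_inv_cancel, map_one]
  have h3 : pr (u d : S2) = pr ((g⁻¹ * s * g) * u c * (g⁻¹ * s * g)⁻¹) := by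
    have h4 : pr g⁻¹ * (pr s * a * (pr s)⁻¹) * pr g = pr (u d : S2) := by
      rw [hd]
      simp only [map_mul, map_inv]
      group
    rw [← h4, hc]
    simp only [map_mul, map_inv]
    group
  have h5 : (g⁻¹ * s * g) 1 0 = 0 := by
    rcases pr_eq_iff.1 h3 with h6 | h6
    · exact apply_one_zero_eq_zero_of_conj_SL (u_mem_upperUnipSL c) hc0 (h6 ▸ u_mem_upperUnipSL d)
    · -- compute
      set t := g⁻¹ * s * g with ht
      have h7 : ((t * u c * t⁻¹ : S2) : Matrix (Fin 2) (Fin 2) F) 1 0 = 0 := by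
        rw [h6]
        simp [coe_u]
      have h8 : ((t * u c * t⁻¹ : S2) : Matrix (Fin 2) (Fin 2) F) 1 0 = -(c * (t 1 0) ^ 2) := by
        rw [Matrix.SpecialLinearGroup.coe_mul, Matrix.SpecialLinearGroup.coe_mul, Matrix.SpecialLinearGroup.coe_inv,
          Matrix.adjugate_fin_two, coe_u]
        simp [Matrix.mul_apply, Fin.sum_univ_two]
        ring
      rw [h8] at h7
      have hc1 : c ≠ 0 := by rintro rfl; exact hc0 u_zero
      have h9 : c * (t 1 0) ^ 2 = 0 := by linear_combination -h7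
      rcases mul_eq_zero.1 h9 with h10 | h10
      · exact absurd h10 hc1
      · exact pow_eq_zero_iff (two_ne_zero) |>.1 h10
  exact mem_borel_iff.2 h5

/-- two elements of the normaliser of a Sylow subgroup, modulo the Sylow subgroup -/
theorem commutator_mem {l : ℕ} [Fact l.Prime] [CharP F l] (P : Sylow l P2) {a b : P2}
    (ha : a ∈ normalizer ((P : Subgroup P2) : Set P2)) (hb : b ∈ normalizer ((P : Subgroup P2) : Set P2)) :
    ∃ k : ℕ, (a * b * a⁻¹ * b⁻¹) ^ l ^ k = 1 := by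
  by_cases hP : (P : Subgroup P2) = ⊥
  · exfalso
    have h1 : l ∣ Nat.card P2 := by
      have h2 := Cfsg.Agent.H394.SqPsl2.card_psl (F := F)
      obtain ⟨n, hn, hn'⟩ := FiniteField.card F l
      have h3 : l ∣ Fintype.card F := by rw [hn']; exact dvd_pow_self l n.2.ne'
      have h4 : l ∣ Nat.gcd 2 (Fintype.card F - 1) * Nat.card P2 := by
        rw [h2]; exact h3.mul_right _
      rcases (Fact.out : l.Prime).dvd_mul.1 h4 with h5 | h5
      · exfalso
        have h6 := h5.trans (Nat.gcd_dvd_right _ _)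
        have h7 : l ∣ Fintype.card F - (Fintype.card F - 1) := Nat.dvd_sub h3 h6
        rw [Nat.sub_sub_self (by have := Fintype.card_pos (α := F); omega)] at h7
        exact (Fact.out : l.Prime).one_lt.ne' (Nat.dvd_one.1 h7)
      · exact h5
    have h2 := P.dvd_card_of_dvd_card h1
    rw [hP, card_bot] at h2
    exact (Fact.out : l.Prime).one_lt.ne' (Nat.dvd_one.1 h2)
  · obtain ⟨g, -, hg⟩ := exists_borel hP P.isPGroup'
    obtain ⟨a', ha', rfl⟩ := hg a (fun x hx => (mem_normalizer_iff.1 ha x).1 hx)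
    obtain ⟨b', hb', rfl⟩ := hg b (fun x hx => (mem_normalizer_iff.1 hb x).1 hx)
    refine ⟨1, ?_⟩
    have h1 := commutator_borel ha' hb'
    have h2 : (pr (g * a' * g⁻¹) * pr (g * b' * g⁻¹) * (pr (g * a' * g⁻¹))⁻¹ * (pr (g * b' * g⁻¹))⁻¹ : P2) =
        pr g * pr (a' * b' * a'⁻¹ * b'⁻¹) * (pr g)⁻¹ := by
      simp only [map_mul, map_inv]
      group
    rw [h2, pow_one, conj_pow, ← map_pow, eq_u_of_mem_upperUnipSL h1, u_pow, map_one, mul_one, mul_inv_cancel]

/-- **The shape of solvable subgroups.** -/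
theorem shape {l : ℕ} [Fact l.Prime] [CharP F l] (H : Subgroup P2) (hH : Group.IsSolvable H) {w : ℕ} (hw : w.Prime)
    (hw5 : 5 ≤ w) (hd : w ∣ Nat.card H) : ShU l H ∨ ShD H := by
  classical
  rcases Cfsg.Agent.S0799.result rfl l H with ⟨k, -, hk⟩ | ⟨P, K, hK, ⟨e⟩⟩ | ⟨⟨e⟩⟩ | ⟨⟨e⟩⟩ | ⟨⟨e⟩⟩ | ⟨K, iK, iK', m, -, he⟩
  · right
    rcases hk with ⟨hc, -⟩ | ⟨⟨e⟩⟩
    · refine ShD.of_comm fun a ha b hb => ?_
      have := (hc.isMulCommutative).is_comm.comm (⟨a, ha⟩ : H) ⟨b, hb⟩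
      exact congrArg Subtype.val this
    · exact ShD.of_dihedral e
  · -- subgroups of the Borel subgroup
    let Q' : Subgroup H := ((P : Subgroup P2).subgroupOf K).comap e.toMonoidHom
    have hmemQ : ∀ h : H, h ∈ Q' ↔ ((e h : K) : P2) ∈ (P : Subgroup P2) := fun h => Iff.rfl
    have hall : ∀ h : H, (∃ k : ℕ, h ^ l ^ k = 1) → h ∈ Q' := by
      rintro h ⟨k, hk⟩
      have h1 : ((e h : K) : P2) ^ l ^ k = 1 := by
        rw [← Subgroup.coe_pow, ← map_pow, hk, map_one]; rfl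
      have h2 : IsPGroup l (zpowers ((e h : K) : P2)) := by
        obtain ⟨j, -, hj⟩ := (Nat.dvd_prime_pow (Fact.out : l.Prime)).1 (orderOf_dvd_of_pow_eq_one h1)
        exact IsPGroup.of_card (n := j) (by rw [Nat.card_zpowers, hj])
      have h3 := h2.inf_normalizer_sylow P
      exact (h3.le ⟨mem_zpowers _, hK (e h).2⟩).2
    by_cases hQ : Q' = ⊥
    · right
      refine ShD.of_comm fun a ha b hb => ?_
      have h1 : (⟨a, ha⟩ : H) * ⟨b, hb⟩ * (⟨a, ha⟩ : H)⁻¹ * (⟨b, hb⟩ : H)⁻¹ ∈ Q' := by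
        apply hall
        obtain ⟨k, hk⟩ := commutator_mem P (hK (e ⟨a, ha⟩).2) (hK (e ⟨b, hb⟩).2)
        refine ⟨k, e.injective ?_⟩
        apply Subtype.ext
        rw [map_pow, map_one, Subgroup.coe_pow, Subgroup.coe_one, ← hk]
        simp only [map_mul, map_inv, Subgroup.coe_mul, Subgroup.coe_inv]
      rw [hQ, mem_bot] at h1
      have h2 : a * b * a⁻¹ * b⁻¹ = 1 := congrArg Subtype.val h1
      calc a * b = (a * b * a⁻¹ * b⁻¹) * (b * a) := by group
        _ = b * a := by rw [h2, one_mul]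
    · left
      refine ⟨Q'.map H.subtype, ?_, ?_, ?_, ?_, ?_⟩
      · intro h
        apply hQ
        rw [Subgroup.map_eq_bot_iff_of_injective _ H.subtype_injective] at h
        exact h
      · rintro _ ⟨a, -, rfl⟩
        exact a.2
      · refine IsPGroup.map ?_ _
        have h1 : IsPGroup l ((P : Subgroup P2).subgroupOf K) := P.isPGroup'.comap_subtype
        exact h1.comap_of_injective e.toMonoidHom e.injective
      · rintro h hh _ ⟨a, ha, rfl⟩
        refine ⟨⟨h, hh⟩ * a * ⟨h, hh⟩⁻¹, ?_, rfl⟩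
        show ((e (⟨h, hh⟩ * a * ⟨h, hh⟩⁻¹) : K) : P2) ∈ (P : Subgroup P2)
        rw [map_mul, map_mul, map_inv, Subgroup.coe_mul, Subgroup.coe_mul, Subgroup.coe_inv]
        exact (mem_normalizer_iff.1 (hK (e ⟨h, hh⟩).2) _).1 ha
      · rintro h hh ⟨k, hk⟩
        exact ⟨⟨h, hh⟩, hall _ ⟨k, Subtype.ext hk⟩, rfl⟩
  · exfalso
    rw [Nat.card_congr e.toEquiv, nat_card_alternatingGroup] at hd
    simp at hd
    have h12 : w ∣ 2 ^ 2 * 3 := by
      have : (2 ^ 2 * 3 : ℕ) = Nat.factorial 4 / 2 := by decide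
      rwa [this]
    rcases hw.dvd_mul.1 h12 with h | h
    · have := Nat.le_of_dvd (by norm_num) (hw.dvd_of_dvd_pow h)
      omega
    · have := Nat.le_of_dvd (by norm_num) h
      omega
  · exfalso
    rw [Nat.card_congr e.toEquiv, Nat.card_perm, Nat.card_fin] at hd
    have h12 : w ∣ 2 ^ 3 * 3 := by
      have : (2 ^ 3 * 3 : ℕ) = Nat.factorial 4 := by decide
      rwa [this]
    rcases hw.dvd_mul.1 h12 with h | h
    · have := Nat.le_of_dvd (by norm_num) (hw.dvd_of_dvd_pow h)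
      omega
    · have := Nat.le_of_dvd (by norm_num) h
      omega
  · exfalso
    exact not_isSolvable_alternating_five (Group.isSolvable_of_surjective (f := e.toMonoidHom) e.surjective)
  · exfalso
    have hK4 : Fintype.card K < 4 := by
      by_contra hcon
      have h1 := not_isSolvable_psl K (not_lt.1 hcon)
      rcases he with ⟨⟨e⟩⟩ | ⟨⟨e⟩⟩
      · exact h1 (Group.isSolvable_of_surjective (f := e.toMonoidHom) e.surjective)
      · have h2 : Group.IsSolvable (Matrix.ProjGenLinGroup (Fin 2) K) :=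
          Group.isSolvable_of_surjective (f := e.toMonoidHom) e.surjective
        exact h1 (Group.isSolvable_of_isSolvable_injective
          (f := (Matrix.ProjectiveSpecialLinearGroup.toPGL (n := Fin 2) (R := K)))
          Matrix.ProjectiveSpecialLinearGroup.toPGL_injective)
    have hK2 : 1 < Fintype.card K := Fintype.one_lt_card
    have hdv : w ∣ Fintype.card K * (Fintype.card K ^ 2 - 1) := by
      rcases he with ⟨⟨e⟩⟩ | ⟨⟨e⟩⟩
      · rw [Nat.card_congr e.toEquiv] at hd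
        rw [← Cfsg.Agent.H394.SqPsl2.card_psl]
        exact hd.mul_left _
      · rw [Nat.card_congr e.toEquiv, Cfsg.Agent.H394.SqPsl2.card_pgl] at hd
        exact hd
    obtain ⟨c, hc⟩ : ∃ c, Fintype.card K = c := ⟨_, rfl⟩
    rw [hc] at hdv hK4 hK2
    have h23 : c = 2 ∨ c = 3 := by omega
    have h12 : w ∣ 2 ^ 3 * 3 := by
      rcases h23 with rfl | rfl
      · exact hdv.trans (by norm_num)
      · exact hdv.trans (by norm_num)
    rcases hw.dvd_mul.1 h12 with h | h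
    · have := Nat.le_of_dvd (by norm_num) (hw.dvd_of_dvd_pow h)
      omega
    · have := Nat.le_of_dvd (by norm_num) h
      omega

end Borel

end Cfsg.Agent.H947.Sy
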