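import Cfsg.Agent.H947.Sy.Psl2C
import Cfsg.Agent.H301.SY.Tools

/-!
# The row `PSL₂(q)` of S3846 (helper947, task 1556): `noya_psl2`
-/

set_option autoImplicit false
set_option linter.unusedSectionVars false

namespace Cfsg.Agent.H947.Sy

open Subgroup Cfsg Matrix
open Cfsg.Agent.H459.Iface Cfsg.Agent.H459.Rad Cfsg.Agent.H301.SY
open Cfsg.Agent.BpLin Cfsg.Agent.LieClassical.SLTwoUnipotent Cfsg.Agent.ClassicalGeometry.PSL2Solvable
open Cfsg.Agent.ClassicalGeometry.AutPSL.Root Cfsg.Agent.ClassicalGeometry.AutPSL.Auto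
  Cfsg.Agent.ClassicalGeometry.AutPSL.Main Cfsg.Agent.H109.EndPsl

section Main

variable {F : Type*} [Field F] [Fintype F]

local notation "S2" => Matrix.SpecialLinearGroup (Fin 2) F
local notation "P2" => Matrix.ProjectiveSpecialLinearGroup (Fin 2) F

theorem not_comm_psl : ¬ IsMulCommutative P2 := by
  intro h
  have h1 : (pr (u 1 * l 1) : P2) = pr (l 1 * u 1) := by
    rw [map_mul, map_mul]
    exact h.is_comm.comm _ _
  obtain ⟨c, hc⟩ := exists_smul_of_pr_eq h1
  have h00 := congrFun (congrFun hc 0) 0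
  have h01 := congrFun (congrFun hc 0) 1
  simp [Matrix.SpecialLinearGroup.coe_mul, coe_u, coe_l, Matrix.mul_apply, Fin.sum_univ_two] at h00 h01
  rw [← h01] at h00
  have : (1 : F) = 0 := by linear_combination -h00
  exact one_ne_zero this

theorem orderOf_pr_dge {w : ℕ} (hw : w.Prime) (hw2 : 2 < w) {v : Fˣ} (hv : orderOf v = w) :
    orderOf (pr (dge v) : P2) = w := by
  have hwF : Fact w.Prime := ⟨hw⟩
  have hv2 : v ^ 2 ≠ 1 := by
    intro h
    have := Nat.le_of_dvd (by norm_num) (hv ▸ orderOf_dvd_of_pow_eq_one h)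
    omega
  have hdw : (pr (dge v) : P2) ^ w = 1 := by
    have h2 : (dge v : S2) = dgh v := rfl
    rw [← map_pow, h2, ← map_pow, ← hv, pow_orderOf_eq_one, map_one, map_one]
  have hd1 : (pr (dge v) : P2) ≠ 1 := by
    intro h
    rw [← map_one (pr : S2 →* P2)] at h
    rcases pr_eq_iff.1 h with h2 | h2
    · have h3 := congrArg (fun m : S2 => (m : Matrix (Fin 2) (Fin 2) F) 0 0) h2
      simp only [coe_dge, Matrix.SpecialLinearGroup.coe_one, Matrix.one_apply_eq, Matrix.of_apply, Matrix.cons_val',
        Matrix.cons_val_zero, Matrix.cons_val_fin_one] at h3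
      apply hv2
      have : v = 1 := Units.ext h3.symm
      rw [this, one_pow]
    · have h3 := congrArg (fun m : S2 => (m : Matrix (Fin 2) (Fin 2) F) 0 0) h2
      simp only [coe_dge, Matrix.SpecialLinearGroup.coe_neg, Matrix.SpecialLinearGroup.coe_one, Matrix.neg_apply,
        Matrix.one_apply_eq, Matrix.of_apply, Matrix.cons_val',
        Matrix.cons_val_zero, Matrix.cons_val_fin_one] at h3
      apply hv2
      have h4 : (v : F) = -1 := by linear_combination h3
      apply Units.ext
      rw [Units.val_pow_eq_pow_val, h4, Units.val_one]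
      ring
  exact orderOf_eq_prime hdw hd1

theorem noya {p : ℕ} [hpf : Fact p.Prime] [IsSimpleGroup P2] (hp : 5 ≤ p) : NoYA p P2 := by
  intro x hx hR hY
  have hna : ¬ IsMulCommutative P2 := not_comm_psl
  have hZ : center P2 = ⊥ := center_eq_bot hna
  have hxp : x ^ p = 1 := by rw [← hx]; exact pow_orderOf_eq_one x
  obtain ⟨A, σ, rfl⟩ := exists_type le_rfl (hpf.out.odd_of_ne_two (by omega)) hxp
  have hxp' := hxp
  rw [← map_pow, pow_type] at hxp'
  have h1 : lift (cj (NA A σ p) * fld (σ ^ p)) = lift (fld (ι := Fin 2) (1 : F ≃+* F)) := by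
    rw [hxp', map_one fld, map_one]
  obtain ⟨⟨c, hc⟩, hσ⟩ := injective_aux h1
  have hc' : (NA A σ p : Matrix (Fin 2) (Fin 2) F) = c • 1 := by
    rw [← hc, Matrix.scalar_apply, Matrix.smul_one_eq_diagonal]
  by_cases h2 : σ = 1
  · subst h2
    rw [map_one fld, mul_one] at hx hR hxp hY
    obtain ⟨s, hs⟩ := Cfsg.Agent.H999.RowPSL.inner_of_coprime (n := 2) (p := p)
      ((Nat.coprime_primes Nat.prime_two hpf.out).2 (by omega)) hxp
    rw [hs] at hx hR hY
    have hos : orderOf s = p := by
      rw [← hx]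
      exact (orderOf_injective (MulAut.conj : P2 →* MulAut P2) (conj_injective hZ) s).symm
    have hYE : YE p s := YE.of_ya hZ hY
    by_cases hpq : p ∣ Nat.card F
    · -- the defining characteristic
      have hch : CharP F p := by
        obtain ⟨r, hr⟩ := CharP.exists F
        have hrp : Fact r.Prime := ⟨CharP.char_is_prime F r⟩
        obtain ⟨n, -, hn⟩ := FiniteField.card F r
        rw [Nat.card_eq_fintype_card, hn] at hpq
        have := (Nat.prime_dvd_prime_iff_eq hpf.out hrp.out).1 (hpf.out.dvd_of_dvd_pow hpq)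
        rwa [this]
      by_cases hpc : Nat.card F = p
      · refine M0.false hna (fun P a ha b hb => ?_) hos hYE
          (m0_psl hpf.out hp (Or.inl (by rw [← Nat.card_eq_fintype_card]; exact hpc)) hos)
        have := (isCyclic_sylow_self hpc P).isMulCommutative
        exact congrArg Subtype.val (this.is_comm.comm (⟨a, ha⟩ : (P : Subgroup P2)) ⟨b, hb⟩)
      · exact unip_false hp hpc hx hR
    · have hpq' : ¬ p ∣ Fintype.card F := by rwa [← Nat.card_eq_fintype_card]
      have hcyc : ∀ P : Sylow p P2, IsCyclic (P : Subgroup P2) := isCyclic_sylow (by omega) hpq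
      by_cases hp1 : p ∣ Fintype.card F - 1
      · obtain ⟨v, hv⟩ : ∃ v : Fˣ, orderOf v = p :=
          exists_prime_orderOf_dvd_card' p (by rwa [Nat.card_units, Nat.card_eq_fintype_card])
        have ho := orderOf_pr_dge hpf.out (by omega) hv
        have hL : p ∣ Nat.card ↥((dgh.range : Subgroup S2).map (pr : S2 →* P2)) := by
          have hm : (pr (dge v) : P2) ∈ (dgh.range : Subgroup S2).map (pr : S2 →* P2) := ⟨_, ⟨v, rfl⟩, rfl⟩
          rw [← ho, ← Subgroup.orderOf_mk _ hm]
          exact orderOf_dvd_natCard _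
        obtain ⟨g, _, ⟨v', rfl⟩, hv'⟩ := exists_conj_mem hcyc hos hL
        have hY' := YE.conj hYE g
        have hos' : orderOf (g * s * g⁻¹) = p := by
          rw [← hos]
          exact orderOf_injective (MulAut.conj g).toMonoidHom (MulAut.conj g).injective s
        rw [← hv'] at hY' hos'
        exact split_false hpf.out hp hpq' hos' hY'
      · refine M0.false hna (fun P a ha b hb => ?_) hos hYE (m0_psl hpf.out hp (Or.inr ⟨hpq', hp1⟩) hos)
        have := (hcyc P).isMulCommutative
        exact congrArg Subtype.val (this.is_comm.comm (⟨a, ha⟩ : (P : Subgroup P2)) ⟨b, hb⟩)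
  · exfalso
    obtain ⟨B, hB⟩ := exists_std hpf.out h2 hσ hc'
    have hY' := hY.tr (lift (cj B))⁻¹
    have he : Cfsg.Agent.H459.Rad.tr (lift (cj B))⁻¹ (lift (cj A * fld σ)) = lift (fld σ) := by
      rw [hB, map_mul, map_mul, map_inv]
      ext y
      rw [tr_apply]
      have h3 : ((lift (cj B))⁻¹ : MulAut P2).symm y = lift (cj B) y := rfl
      rw [h3, MulAut.mul_apply, MulAut.mul_apply, MulAut.inv_apply_self, MulAut.inv_apply_self]
    rw [he] at hY'
    exact field_false hpf.out hp hσ h2 hY'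

end Main

/-- **Row `PSL_2(q)` of S3846.** -/
theorem noya_psl2 {K : Type*} [Group K] [Finite K] [IsSimpleGroup K] {F : Type*} [Field F] [Fintype F] {p : ℕ}
    [Fact p.Prime] (e : Nonempty (K ≃* Matrix.ProjectiveSpecialLinearGroup (Fin 2) F)) (hp : 5 ≤ p) :
    Cfsg.Agent.H301.SY.NoYA p K := by
  obtain ⟨e⟩ := e
  have : IsSimpleGroup (Matrix.ProjectiveSpecialLinearGroup (Fin 2) F) := e.symm.isSimpleGroup
  have : Finite (Matrix.ProjectiveSpecialLinearGroup (Fin 2) F) := Quotient.finite _
  exact NoYA.congr e (noya hp)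

end Cfsg.Agent.H947.Sy
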