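import Cfsg.Agent.H947.Sy.Psl2A
import Cfsg.Agent.Lib.Zsigmondy
import Cfsg.Agent.Lib.PSL2Inv
import Cfsg.Agent.SignalizersComponents.CoprimeBasic

/-!
# The row `PSL₂(q)` of S3846 (helper947, task 1556)

* `m0_psl` : in the inner case, `p ∤ q (q - 1)` or `q = p`, the element satisfies `M0`;
* `split_false` : the inner case, `p ∣ q - 1`;
* `field_false` : field automorphisms.
-/

set_option autoImplicit false
set_option linter.unusedSectionVars false

namespace Cfsg.Agent.H947.Sy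

open Subgroup Cfsg Matrix
open Cfsg.Agent.H459.Iface Cfsg.Agent.H459.Rad Cfsg.Agent.H301.SY
open Cfsg.Agent.BpLin Cfsg.Agent.LieClassical.SLTwoUnipotent Cfsg.Agent.ClassicalGeometry.PSL2Solvable
open Cfsg.Agent.ClassicalGeometry.AutPSL.Root Cfsg.Agent.ClassicalGeometry.AutPSL.Auto
  Cfsg.Agent.ClassicalGeometry.AutPSL.Main Cfsg.Agent.H109.EndPsl

section Conj

variable {G : Type*} [Group G]

theorem closure_pair_conj (g x y : G) : (closure ({x, y} : Set G)).map (MulAut.conj g).toMonoidHom =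
    closure ({g * x * g⁻¹, g * y * g⁻¹} : Set G) := by
  rw [MonoidHom.map_closure, Set.image_pair]
  rfl

theorem solv_pair_conj {x y : G} (g : G) (h : Group.IsSolvable ↥(closure ({x, y} : Set G))) :
    Group.IsSolvable ↥(closure ({g * x * g⁻¹, g * y * g⁻¹} : Set G)) := by
  rw [← closure_pair_conj]
  exact Cfsg.Agent.SignalizersComponents.ComponentExists.isSolvable_map h _

theorem YE.conj {p : ℕ} {x : G} (h : YE p x) (g : G) : YE p (g * x * g⁻¹) := by
  intro r hr hrp y hy hs a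
  have h1 := h r hr hrp (g⁻¹ * y * g) (by
    obtain ⟨k, hk⟩ := hy
    refine ⟨k, ?_⟩
    rw [← hk]
    have : g⁻¹ * y * g = MulAut.conj g⁻¹ y := by rw [MulAut.conj_apply, inv_inv]
    rw [this]
    exact orderOf_injective (MulAut.conj g⁻¹).toMonoidHom (MulAut.conj g⁻¹).injective y) (by
    have := solv_pair_conj g⁻¹ hs
    have e1 : g⁻¹ * (g * x * g⁻¹) * g⁻¹⁻¹ = x := by group
    have e2 : g⁻¹ * y * g⁻¹⁻¹ = g⁻¹ * y * g := by rw [inv_inv]
    rwa [e1, e2] at this) (g⁻¹ * a * g)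
  have h2 := solv_pair_conj g h1
  have e3 : g * (g⁻¹ * a * g * (g⁻¹ * y * g) * (g⁻¹ * a * g)⁻¹) * g⁻¹ = a * y * a⁻¹ := by group
  rwa [e3] at h2

end Conj

section Inner

variable {F : Type*} [Field F] [Fintype F]

local notation "S2" => Matrix.SpecialLinearGroup (Fin 2) F
local notation "P2" => Matrix.ProjectiveSpecialLinearGroup (Fin 2) F

/-- an element of prime order `p ≥ 5`, `p ∤ q (q - 1)`, does not normalise an `l`-subgroup -/
theorem borel_order {l : ℕ} [hl : Fact l.Prime] [CharP F l] {p : ℕ} (hp : p.Prime)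
    (hpq : ¬ p ∣ Fintype.card F) (hp1 : ¬ p ∣ Fintype.card F - 1) {g b : S2} (hb : b ∈ borel F)
    (hx : orderOf (pr (g * b * g⁻¹) : P2) = p) : False := by
  have hbb : (b : Matrix (Fin 2) (Fin 2) F) 0 0 * (b : Matrix (Fin 2) (Fin 2) F) 1 1 = 1 := by
    have h1 : (b : Matrix (Fin 2) (Fin 2) F) 0 0 * (b : Matrix (Fin 2) (Fin 2) F) 1 1 -
      (b : Matrix (Fin 2) (Fin 2) F) 0 1 * (b : Matrix (Fin 2) (Fin 2) F) 1 0 = 1 := by
      rw [← Matrix.det_fin_two, Matrix.SpecialLinearGroup.det_coe]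
    rw [mem_borel_iff.mp hb, mul_zero, sub_zero] at h1
    exact h1
  have hpow : ∀ n : ℕ, b ^ n ∈ borel F ∧
      ((b ^ n : S2) : Matrix (Fin 2) (Fin 2) F) 0 0 = ((b : Matrix (Fin 2) (Fin 2) F) 0 0) ^ n := by
    intro n
    induction n with
    | zero => exact ⟨(borel F).one_mem, by simp⟩
    | succ n ih =>
      refine ⟨(borel F).pow_mem hb _, ?_⟩
      rw [pow_succ, Matrix.SpecialLinearGroup.coe_mul, Matrix.mul_apply, Fin.sum_univ_two, mem_borel_iff.mp hb,
        mul_zero, add_zero, ih.2, pow_succ]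
  have h1 : (pr b : P2) ^ p = 1 := by
    have h2 : (pr (g * b * g⁻¹) : P2) ^ p = 1 := by rw [← hx]; exact pow_orderOf_eq_one _
    rw [map_mul, map_mul, map_inv, conj_pow] at h2
    have h3 : (pr b : P2) ^ p = (pr g)⁻¹ * (pr g * (pr b) ^ p * (pr g)⁻¹) * pr g := by group
    rw [h3, h2]; group
  rw [← map_pow, ← map_one (pr : S2 →* P2)] at h1
  set α := (b : Matrix (Fin 2) (Fin 2) F) 0 0 with hα
  have h2 : α ^ (2 * p) = 1 := by
    rcases pr_eq_iff.1 h1 with h3 | h3
    · have h4 : b ^ p = 1 := h3.symm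
      have h5 := (hpow p).2
      rw [h4] at h5
      rw [mul_comm, pow_mul, ← h5]; simp
    · have h4 : b ^ p = -1 := by rw [h3, neg_neg]
      have h5 := (hpow p).2
      rw [h4] at h5
      rw [mul_comm, pow_mul, ← h5]; simp
  have hα0 : α ≠ 0 := left_ne_zero_of_mul_eq_one hbb
  have h3 : α ^ (Fintype.card F - 1) = 1 := FiniteField.pow_card_sub_one_eq_one α hα0
  have h4 : α ^ 2 = 1 := by
    have h5 : α ^ Nat.gcd (2 * p) (Fintype.card F - 1) = 1 := pow_gcd_eq_one.2 ⟨h2, h3⟩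
    have h6 : Nat.gcd (2 * p) (Fintype.card F - 1) ∣ 2 := by
      have h7 : Nat.Coprime (Nat.gcd (2 * p) (Fintype.card F - 1)) p :=
        Nat.Coprime.coprime_dvd_left (Nat.gcd_dvd_right _ _) ((Nat.Prime.coprime_iff_not_dvd hp).2 hp1).symm
      exact h7.dvd_of_dvd_mul_right (Nat.gcd_dvd_left _ _)
    obtain ⟨k, hk⟩ := h6
    rw [hk, pow_mul, h5, one_pow]
  have h5 : (pr b : P2) ^ l = 1 := by
    have h6 : ∀ c : S2, c ∈ borel F → (c : Matrix (Fin 2) (Fin 2) F) 0 0 = 1 → (c : Matrix (Fin 2) (Fin 2) F) 1 1 = 1 →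
        c ^ l = 1 := by
      intro c hc hc0 hc1
      rw [eq_u_of_mem_upperUnipSL (mem_upperUnipSL_iff.2 ⟨hc0, mem_borel_iff.1 hc, hc1⟩), u_pow]
    have h7 : (α - 1) * (α + 1) = 0 := by linear_combination h4
    rcases mul_eq_zero.1 h7 with h8 | h8
    · have h9 : α = 1 := sub_eq_zero.1 h8
      rw [← map_pow, h6 b hb h9 (by rw [h9, one_mul] at hbb; exact hbb), map_one]
    · have h9 : α = -1 := eq_neg_of_add_eq_zero_left h8
      have h10 : (pr b : P2) = pr (-b) := pr_eq_iff.2 (Or.inr rfl)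
      rw [h10, ← map_pow, h6 (-b) ?_ ?_ ?_, map_one]
      · rw [mem_borel_iff]
        have := mem_borel_iff.1 hb
        simpa using this
      · have : ((-b : S2) : Matrix (Fin 2) (Fin 2) F) 0 0 = -α := by simp [hα]
        rw [this, h9, neg_neg]
      · have h11 : ((-b : S2) : Matrix (Fin 2) (Fin 2) F) 1 1 = -(b : Matrix (Fin 2) (Fin 2) F) 1 1 := by simp
        rw [h11]
        rw [h9] at hbb
        linear_combination hbb
  have h6 : orderOf (pr (g * b * g⁻¹) : P2) ∣ l := by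
    apply orderOf_dvd_of_pow_eq_one
    rw [map_mul, map_mul, map_inv, conj_pow, h5, mul_one, mul_inv_cancel]
  rw [hx] at h6
  have h7 := (Nat.prime_dvd_prime_iff_eq hp hl.out).1 h6
  obtain ⟨n, hn, hn'⟩ := FiniteField.card F l
  exact hpq (by rw [hn', h7]; exact dvd_pow_self l n.2.ne')

/-- **Case `p ∤ q (q - 1)` or `q = p`.** -/
theorem m0_psl {p : ℕ} (hp : p.Prime) (hp5 : 5 ≤ p)
    (hc : Fintype.card F = p ∨ (¬ p ∣ Fintype.card F ∧ ¬ p ∣ Fintype.card F - 1)) {x : P2} (hx : orderOf x = p) :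
    M0 x := by
  intro H hH hxH h hh
  obtain ⟨l, hlF⟩ := CharP.exists F
  have hl : Fact l.Prime := ⟨CharP.char_is_prime F l⟩
  have hd : p ∣ Nat.card H := by
    rw [← hx, ← Subgroup.orderOf_mk x hxH]
    exact orderOf_dvd_natCard _
  rcases shape (l := l) H hH hp hp5 hd with ⟨Q, hQ1, hQH, hQl, hQn, hQa⟩ | ⟨A, hAH, hAc, hA1, hA2⟩
  · rcases hc with hc | ⟨hc1, hc2⟩
    · -- `q = p`
      obtain ⟨n, hn, hn'⟩ := FiniteField.card F l
      have hlp : l = p := by
        have h1 : l ∣ p := by rw [← hc, hn']; exact dvd_pow_self l n.2.ne'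
        exact (Nat.prime_dvd_prime_iff_eq hl.out hp).1 h1
      subst hlp
      obtain ⟨P, hP⟩ := hQl.exists_le_sylow
      have hQx : x ∈ Q := hQa x hxH ⟨1, by rw [pow_one, ← hx]; exact pow_orderOf_eq_one x⟩
      have hcard : Nat.card Q = l := by
        obtain ⟨k, hk⟩ := IsPGroup.iff_card.1 hQl
        have h1 : Nat.card Q ∣ l * (l ^ 2 - 1) := by
          have h2 := Cfsg.Agent.H394.SqPsl2.card_psl (F := F)
          rw [hc] at h2
          rw [← h2]
          exact (Subgroup.card_subgroup_dvd_card Q).mul_left _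
        have h2 : l ∣ Nat.card Q := by
          rw [← hx, ← Subgroup.orderOf_mk x hQx]
          exact orderOf_dvd_natCard _
        rw [hk] at h1 h2 ⊢
        have hk0 : k ≠ 0 := by
          rintro rfl
          rw [pow_zero] at h2
          exact hp.one_lt.ne' (Nat.dvd_one.1 h2)
        by_cases hk2 : 2 ≤ k
        · exfalso
          have h3 : l ^ 2 ∣ l * (l ^ 2 - 1) := (pow_dvd_pow l hk2).trans h1
          rw [pow_two, Nat.mul_dvd_mul_iff_left hp.pos] at h3
          have h4 : l ∣ l * l - (l * l - 1) := Nat.dvd_sub (dvd_mul_right l l) h3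
          have h5 : l * l - (l * l - 1) = 1 := by
            have := Nat.mul_pos hp.pos hp.pos
            omega
          rw [h5] at h4
          exact hp.one_lt.ne' (Nat.dvd_one.1 h4)
        · have : k = 1 := by omega
          rw [this, pow_one]
      have hQz : Q = zpowers x := by
        symm
        apply Subgroup.eq_of_le_of_card_ge
        · exact (zpowers_le).2 hQx
        · rw [hcard, Nat.card_zpowers, hx]
      have := hQn h hh x hQx
      rwa [hQz] at this
    · exfalso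
      obtain ⟨g, -, hg⟩ := exists_borel hQ1 hQl
      obtain ⟨b, hb, hxb⟩ := hg x (hQn x hxH)
      rw [hxb] at hx
      exact borel_order hp hc1 hc2 hb hx
  · have hx2 : x ^ 2 ≠ 1 := by
      intro h1
      have := Nat.le_of_dvd (by norm_num) (orderOf_dvd_of_pow_eq_one h1)
      omega
    have hxA := hA1 x hxH hx2
    by_cases hhA : h ∈ A
    · rw [hAc h hhA x hxA, mul_inv_cancel_right]
      exact mem_zpowers x
    · rw [hA2 h hh hhA x hxA]
      exact (zpowers x).inv_mem (mem_zpowers x)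

/-- the matrix `[[s, 0], [s, s⁻¹]]` -/
def gs (s : F) (hs : s ≠ 0) : S2 := ⟨!![s, 0; s, s⁻¹], by rw [Matrix.det_fin_two_of]; field_simp; ring⟩

theorem coe_gs (s : F) (hs : s ≠ 0) : ((gs s hs * u 1 * (gs s hs)⁻¹ : S2) : Matrix (Fin 2) (Fin 2) F) =
    !![1 - s ^ 2, s ^ 2; -s ^ 2, 1 + s ^ 2] := by
  rw [Matrix.SpecialLinearGroup.coe_mul, Matrix.SpecialLinearGroup.coe_mul, Matrix.SpecialLinearGroup.coe_inv,
    Matrix.adjugate_fin_two, coe_u]
  ext i j
  fin_cases i <;> fin_cases j <;> simp [gs, Matrix.mul_apply, Fin.sum_univ_two] <;> field_simp <;> ring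

/-- `pr (diag (v, v⁻¹))` -/
theorem pr_dge_eq_one {v : Fˣ} (h : v ^ 2 = 1) : (pr (dge v) : P2) ^ 2 = 1 := by
  have h1 : (dge v : S2) ^ 2 = 1 := by
    have h2 : (dge v : S2) = dgh v := rfl
    rw [h2, ← map_pow, h, map_one]
  rw [← map_pow, h1, map_one]

theorem pr_dge_four {v : Fˣ} (h : v ^ 4 = 1) : (pr (dge v) : P2) ^ 4 = 1 := by
  have h1 : (dge v : S2) ^ 4 = 1 := by
    have h2 : (dge v : S2) = dgh v := rfl
    rw [h2, ← map_pow, h, map_one]
  rw [← map_pow, h1, map_one]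

/-- the eigenvectors of a diagonal matrix -/
theorem eig_dge {v : Fˣ} (hv : v ^ 2 ≠ 1) {g b : S2} (hb : b ∈ borel F) (h : (pr (dge v) : P2) = pr (g * b * g⁻¹)) :
    (g : Matrix (Fin 2) (Fin 2) F) 0 0 = 0 ∨ (g : Matrix (Fin 2) (Fin 2) F) 1 0 = 0 := by
  obtain ⟨c, hc⟩ : ∃ c : F, ((dge v * g : S2) : Matrix (Fin 2) (Fin 2) F) = c • ((g * b : S2) : Matrix (Fin 2) (Fin 2) F) := by
    obtain ⟨c, hc⟩ := exists_smul_of_pr_eq (x := g * b) (y := dge v * g) (by
      rw [map_mul, map_mul, h]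
      simp only [map_mul, map_inv]
      group)
    exact ⟨c, hc⟩
  have h0 := congrFun (congrFun hc 0) 0
  have h1 := congrFun (congrFun hc 1) 0
  have hb0 := mem_borel_iff.1 hb
  rw [Matrix.SpecialLinearGroup.coe_mul, Matrix.SpecialLinearGroup.coe_mul, coe_dge] at h0 h1
  simp only [Matrix.smul_apply, Matrix.mul_apply, Fin.sum_univ_two, smul_eq_mul, Matrix.of_apply, Matrix.cons_val',
    Matrix.cons_val_zero, Matrix.cons_val_one, Matrix.cons_val_fin_one] at h0 h1
  rw [hb0] at h0 h1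
  by_contra hcon
  rw [not_or] at hcon
  apply hv
  have h2 : (v : F) = ((v⁻¹ : Fˣ) : F) := by
    have e1 : ((v : F) - c * (b : Matrix (Fin 2) (Fin 2) F) 0 0) * (g : Matrix (Fin 2) (Fin 2) F) 0 0 = 0 := by
      linear_combination h0
    have e2 : (((v⁻¹ : Fˣ) : F) - c * (b : Matrix (Fin 2) (Fin 2) F) 0 0) * (g : Matrix (Fin 2) (Fin 2) F) 1 0 = 0 := by
      linear_combination h1
    have e3 := (mul_eq_zero.1 e1).resolve_right hcon.1
    have e4 := (mul_eq_zero.1 e2).resolve_right hcon.2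
    linear_combination e3 - e4
  have h3 : v = v⁻¹ := Units.ext h2
  rw [sq]
  nth_rewrite 1 [h3]
  exact inv_mul_cancel v

/-- **Case `p ∣ q - 1`.** -/
theorem split_false {p : ℕ} (hp : p.Prime) (hp5 : 5 ≤ p) (hpq : ¬ p ∣ Fintype.card F) {v : Fˣ}
    (hx : orderOf (pr (dge v) : P2) = p) (hY : YE p (pr (dge v) : P2)) : False := by
  obtain ⟨l, hlF⟩ := CharP.exists F
  have hl : Fact l.Prime := ⟨CharP.char_is_prime F l⟩
  have hv2 : v ^ 2 ≠ 1 := by
    intro h
    have := Nat.le_of_dvd (by norm_num) (hx ▸ orderOf_dvd_of_pow_eq_one (pr_dge_eq_one h))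
    omega
  have hv4 : v ^ 4 ≠ 1 := by
    intro h
    have := Nat.le_of_dvd (by norm_num) (hx ▸ orderOf_dvd_of_pow_eq_one (pr_dge_four h))
    omega
  -- the parameter
  obtain ⟨s, hs0, hs2⟩ : ∃ s : F, s ≠ 0 ∧ s ^ 2 ≠ 1 := by
    refine ⟨(v : F), v.ne_zero, fun h => hv2 (Units.ext ?_)⟩
    rw [Units.val_pow_eq_pow_val, h, Units.val_one]
  have hlp : l ≠ p := by
    rintro rfl
    obtain ⟨n, hn, hn'⟩ := FiniteField.card F l
    exact hpq (by rw [hn']; exact dvd_pow_self l n.2.ne')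
  have hy1 : (pr (u 1 : S2) : P2) ^ l = 1 := by rw [← map_pow, u_pow, map_one]
  have hsol : Group.IsSolvable ↥(closure ({pr (dge v), pr (u 1)} : Set P2)) := by
    have h1 : closure ({pr (dge v), pr (u 1)} : Set P2) ≤ (borel F).map (pr : S2 →* P2) := by
      rw [closure_le]
      rintro z (rfl | rfl)
      · exact ⟨dge v, mem_borel_iff.2 (by simp [coe_dge]), rfl⟩
      · exact ⟨u 1, mem_borel_iff.2 (by simp [coe_u]), rfl⟩
    have h2 : Group.IsSolvable ↥((borel F).map (pr : S2 →* P2)) :=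
      Cfsg.Agent.SignalizersComponents.ComponentExists.isSolvable_map isSolvable_borel _
    exact Group.isSolvable_of_isSolvable_injective (f := Subgroup.inclusion h1) (Subgroup.inclusion_injective h1)
  have hall := hY l hl.out hlp (pr (u 1)) (by
    rcases (Nat.dvd_prime hl.out).1 (orderOf_dvd_of_pow_eq_one hy1) with h | h
    · exact ⟨0, by rw [h, pow_zero]⟩
    · exact ⟨1, by rw [h, pow_one]⟩) hsol (pr (gs s hs0))
  have he : (pr (gs s hs0) * pr (u 1) * (pr (gs s hs0))⁻¹ : P2) = pr (gs s hs0 * u 1 * (gs s hs0)⁻¹) := by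
    rw [map_mul, map_mul, map_inv]
  rw [he] at hall
  obtain ⟨τ, hτ⟩ : ∃ τ : S2, gs s hs0 * u 1 * (gs s hs0)⁻¹ = τ := ⟨_, rfl⟩
  have hτc : (τ : Matrix (Fin 2) (Fin 2) F) = !![1 - s ^ 2, s ^ 2; -s ^ 2, 1 + s ^ 2] := by
    rw [← hτ]; exact coe_gs s hs0
  rw [hτ] at hall
  have hs20 : s ^ 2 ≠ 0 := pow_ne_zero _ hs0
  set H := closure ({pr (dge v), pr τ} : Set P2) with hH
  have hxH : (pr (dge v) : P2) ∈ H := subset_closure (Set.mem_insert _ _)
  have hyH : (pr τ : P2) ∈ H := subset_closure (Set.mem_insert_of_mem _ rfl)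
  have hd : p ∣ Nat.card H := by
    rw [← hx, ← Subgroup.orderOf_mk _ hxH]
    exact orderOf_dvd_natCard _
  rcases shape (l := l) H hall hp hp5 hd with ⟨Q, hQ1, hQH, hQl, hQn, hQa⟩ | ⟨A, hAH, hAc, hA1, hA2⟩
  · obtain ⟨g, -, hg⟩ := exists_borel hQ1 hQl
    obtain ⟨b, hb, hxb⟩ := hg _ (hQn _ hxH)
    obtain ⟨b', hb', hyb⟩ := hg _ (hQn _ hyH)
    obtain ⟨c, hc⟩ := exists_smul_of_pr_eq (x := g * b') (y := τ * g) (by
      rw [map_mul, map_mul, hyb]
      simp only [map_mul, map_inv]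
      group)
    have h0 := congrFun (congrFun hc 0) 0
    have h1 := congrFun (congrFun hc 1) 0
    have hb0 := mem_borel_iff.1 hb'
    rw [Matrix.SpecialLinearGroup.coe_mul, Matrix.SpecialLinearGroup.coe_mul, hτc] at h0 h1
    simp only [Matrix.smul_apply, Matrix.mul_apply, Fin.sum_univ_two, smul_eq_mul, Matrix.of_apply, Matrix.cons_val',
      Matrix.cons_val_zero, Matrix.cons_val_one, Matrix.cons_val_fin_one] at h0 h1
    rw [hb0] at h0 h1
    have hdet : (g : Matrix (Fin 2) (Fin 2) F) 0 0 * (g : Matrix (Fin 2) (Fin 2) F) 1 1 -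
      (g : Matrix (Fin 2) (Fin 2) F) 0 1 * (g : Matrix (Fin 2) (Fin 2) F) 1 0 = 1 := by
      rw [← Matrix.det_fin_two, Matrix.SpecialLinearGroup.det_coe]
    rcases eig_dge hv2 hb hxb with h2 | h2
    · rw [h2] at h0 hdet
      have h3 : s ^ 2 * (g : Matrix (Fin 2) (Fin 2) F) 1 0 = 0 := by linear_combination h0
      have h4 := (mul_eq_zero.1 h3).resolve_left hs20
      rw [h4] at hdet
      simp at hdet
    · rw [h2] at h1 hdet
      have h3 : s ^ 2 * (g : Matrix (Fin 2) (Fin 2) F) 0 0 = 0 := by linear_combination -h1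
      have h4 := (mul_eq_zero.1 h3).resolve_left hs20
      rw [h4] at hdet
      simp at hdet
  · have hx2 : (pr (dge v) : P2) ^ 2 ≠ 1 := by
      intro h1
      have := Nat.le_of_dvd (by norm_num) (hx ▸ orderOf_dvd_of_pow_eq_one h1)
      omega
    have hxA := hA1 _ hxH hx2
    have hvi : (v : F) * ((v⁻¹ : Fˣ) : F) = 1 := by rw [← Units.val_mul, mul_inv_cancel, Units.val_one]
    have hvF : (v : F) ^ 2 ≠ 1 := fun h => hv2 (Units.ext (by rw [Units.val_pow_eq_pow_val, h, Units.val_one]))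
    have hvF4 : (v : F) ^ 4 ≠ 1 := fun h => hv4 (Units.ext (by rw [Units.val_pow_eq_pow_val, h, Units.val_one]))
    by_cases hyA : (pr τ : P2) ∈ A
    · rcases comm_or (hAc _ hxA _ hyA) with h1 | h1
      · have h2 := congrArg (fun m : S2 => (m : Matrix (Fin 2) (Fin 2) F) 0 1) h1
        simp only [Matrix.SpecialLinearGroup.coe_mul, coe_dge, hτc, Matrix.mul_apply, Fin.sum_univ_two,
          Matrix.of_apply, Matrix.cons_val', Matrix.cons_val_zero, Matrix.cons_val_one, Matrix.cons_val_fin_one] at h2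
        apply hvF
        have h3 : s ^ 2 * ((v : F) - ((v⁻¹ : Fˣ) : F)) = 0 := by linear_combination h2
        have h4 := (mul_eq_zero.1 h3).resolve_left hs20
        linear_combination (v : F) * h4 + hvi
      · have h2 := congrFun (congrFun h1 0) 1
        simp only [coe_dge, hτc, Matrix.mul_apply, Fin.sum_univ_two, Matrix.neg_apply,
          Matrix.of_apply, Matrix.cons_val', Matrix.cons_val_zero, Matrix.cons_val_one, Matrix.cons_val_fin_one] at h2
        apply hvF4
        have h3 : s ^ 2 * ((v : F) + ((v⁻¹ : Fˣ) : F)) = 0 := by linear_combination h2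
        have h4 := (mul_eq_zero.1 h3).resolve_left hs20
        have h5 : (v : F) ^ 2 = -1 := by linear_combination (v : F) * h4 - hvi
        linear_combination ((v : F) ^ 2 - 1) * h5
    · have h1 := hA2 _ hyH hyA _ hxA
      have h2 : (pr (τ * dge v) : P2) = pr ((dge v)⁻¹ * τ) := by
        rw [map_mul, map_mul, map_inv, ← h1]
        group
      obtain ⟨c, hc⟩ := exists_smul_of_pr_eq h2
      have hi : (((dge v)⁻¹ : S2) : Matrix (Fin 2) (Fin 2) F) = !![((v⁻¹ : Fˣ) : F), 0; 0, (v : F)] := by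
        rw [Matrix.SpecialLinearGroup.coe_inv, Matrix.adjugate_fin_two, coe_dge]
        ext i j
        fin_cases i <;> fin_cases j <;> simp
      have h3 := congrFun (congrFun hc 0) 1
      have h4 := congrFun (congrFun hc 0) 0
      simp only [Matrix.SpecialLinearGroup.coe_mul, coe_dge, hτc, hi, Matrix.mul_apply, Fin.sum_univ_two,
        Matrix.smul_apply, smul_eq_mul,
        Matrix.of_apply, Matrix.cons_val', Matrix.cons_val_zero, Matrix.cons_val_one, Matrix.cons_val_fin_one] at h3 h4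
      have h5 : s ^ 2 * ((v⁻¹ : Fˣ) : F) * (1 - c) = 0 := by linear_combination h3
      have h6 : (1 - c) = 0 := by
        rcases mul_eq_zero.1 h5 with h | h
        · rcases mul_eq_zero.1 h with h | h
          · exact absurd h hs20
          · exact absurd h (Units.ne_zero _)
        · exact h
      have hc1 : c = 1 := by linear_combination -h6
      rw [hc1] at h4
      have h7 : (1 - s ^ 2) * ((v : F) - ((v⁻¹ : Fˣ) : F)) = 0 := by linear_combination -h4
      rcases mul_eq_zero.1 h7 with h8 | h8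
      · exact hs2 (by linear_combination -h8)
      · exact hvF (by linear_combination (v : F) * h8 + hvi)

end Inner

end Cfsg.Agent.H947.Sy
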