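import Cfsg.Agent.H947.Sy.Psl2B
import Cfsg.Agent.GenExc.Main

/-!
# Field automorphisms of `PSL₂(q)` and condition `YA` (helper947, task 1556, S3846)
-/

set_option autoImplicit false
set_option linter.unusedSectionVars false

namespace Cfsg.Agent.H947.Sy

open Subgroup Cfsg Matrix
open Cfsg.Agent.H459.Iface Cfsg.Agent.H459.Rad Cfsg.Agent.H301.SY
open Cfsg.Agent.BpLin Cfsg.Agent.LieClassical.SLTwoUnipotent Cfsg.Agent.ClassicalGeometry.PSL2Solvable
open Cfsg.Agent.ClassicalGeometry.AutPSL.Root Cfsg.Agent.ClassicalGeometry.AutPSL.Auto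
  Cfsg.Agent.ClassicalGeometry.AutPSL.Main Cfsg.Agent.H109.EndPsl

section Fld

variable {F : Type*} [Field F] [Fintype F]

local notation "S2" => Matrix.SpecialLinearGroup (Fin 2) F
local notation "P2" => Matrix.ProjectiveSpecialLinearGroup (Fin 2) F

/-- a suitable prime divisor of `q - 1` -/
theorem exists_w {σ : F ≃+* F} {p : ℕ} (hpp : p.Prime) (hp5 : 5 ≤ p) (hσ : σ ^ p = 1) (h1 : σ ≠ 1) :
    ∃ w : ℕ, w.Prime ∧ 5 < w ∧ w ≠ p ∧ w ∣ Fintype.card F - 1 := by
  obtain ⟨K, c, -, hcard, hc0⟩ := Cfsg.Agent.Lib.PSL2Inv.exists_fixed_field σ hpp (n := 1) (by rw [pow_one]; exact hσ)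
  have hc : c ≠ 0 := fun h => h1 (hc0 h)
  obtain ⟨d, rfl⟩ := Nat.exists_eq_succ_of_ne_zero hc
  set a := Nat.card K ^ p ^ d with ha
  have hK : 2 ≤ Nat.card K := Finite.one_lt_card
  have ha2 : 2 ≤ a := by
    calc 2 ≤ Nat.card K := hK
      _ ≤ a := Nat.le_self_pow (pow_ne_zero _ hpp.ne_zero) _
  have hF : Fintype.card F = a ^ p := by
    rw [← Nat.card_eq_fintype_card, hcard, ha, ← pow_mul, ← pow_succ]
  obtain ⟨w, hw, hw1, hw2, -⟩ := Cfsg.Agent.Lib.Zsigmondy.exists_primitive (a := a) (n := p) ha2 hpp.two_le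
    (fun h => by omega) (fun h => by
      have := h.2
      rw [this] at hpp
      exact absurd hpp (by norm_num))
  have hle : p ≤ w - 1 := Nat.le_of_dvd (by have := hw.two_le; omega) hw2
  exact ⟨w, hw, by omega, by omega, by rw [hF]; exact (hw1 p).2 dvd_rfl⟩

/-- the matrix with columns `(a, 1)` and `(a - 1, 1)` -/
def ga (a : F) : S2 := ⟨!![a, a - 1; 1, 1], by rw [Matrix.det_fin_two_of]; ring⟩

theorem coe_ga (a : F) : ((ga a : S2) : Matrix (Fin 2) (Fin 2) F) = !![a, a - 1; 1, 1] := rfl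

theorem fld_dge (σ : F ≃+* F) (v : Fˣ) : fld σ (dge v : S2) = dge (Units.map σ.toMonoidHom v) := by
  apply Subtype.ext
  ext i j
  rw [coe_fld_apply]
  fin_cases i <;> fin_cases j <;> simp [coe_dge]

theorem fld_ga (σ : F ≃+* F) (a : F) : fld σ (ga a : S2) = ga (σ a) := by
  apply Subtype.ext
  ext i j
  rw [coe_fld_apply]
  fin_cases i <;> fin_cases j <;> simp [coe_ga]

theorem fld_u (σ : F ≃+* F) (c : F) : fld σ (u c : S2) = u (σ c) := by
  apply Subtype.ext
  ext i j
  rw [coe_fld_apply]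
  fin_cases i <;> fin_cases j <;> simp [coe_u]

/-- `g⁻¹ σ(g)` -/
theorem coe_hh (a b : F) : (((ga a)⁻¹ * ga b : S2) : Matrix (Fin 2) (Fin 2) F) =
    !![1 + (b - a), b - a; -(b - a), 1 - (b - a)] := by
  rw [Matrix.SpecialLinearGroup.coe_mul, Matrix.SpecialLinearGroup.coe_inv, Matrix.adjugate_fin_two, coe_ga, coe_ga]
  ext i j
  fin_cases i <;> fin_cases j <;> simp [Matrix.mul_apply, Fin.sum_univ_two] <;> ring

theorem tri {t : S2} {c d : F} (hc : c ≠ 0) (h : (pr (t * u c * t⁻¹) : P2) = pr (u d)) : t 1 0 = 0 := by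
  have h8 : ((t * u c * t⁻¹ : S2) : Matrix (Fin 2) (Fin 2) F) 1 0 = -(c * (t 1 0) ^ 2) := by
    rw [Matrix.SpecialLinearGroup.coe_mul, Matrix.SpecialLinearGroup.coe_mul, Matrix.SpecialLinearGroup.coe_inv,
      Matrix.adjugate_fin_two, coe_u]
    simp [Matrix.mul_apply, Fin.sum_univ_two]
    ring
  have h7 : ((t * u c * t⁻¹ : S2) : Matrix (Fin 2) (Fin 2) F) 1 0 = 0 := by
    rcases pr_eq_iff.1 h.symm with h6 | h6
    · rw [h6]
      simp [coe_u]
    · rw [h6]
      simp [coe_u]
  rw [h8] at h7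
  have h9 : c * (t 1 0) ^ 2 = 0 := by linear_combination -h7
  rcases mul_eq_zero.1 h9 with h10 | h10
  · exact absurd h10 hc
  · exact pow_eq_zero_iff (two_ne_zero) |>.1 h10

/-- **Field automorphisms.** -/
theorem field_false {σ : F ≃+* F} {p : ℕ} (hpp : p.Prime) (hp5 : 5 ≤ p) (hσ : σ ^ p = 1) (h1 : σ ≠ 1)
    (hY : YA p (lift (fld σ) : MulAut P2)) : False := by
  obtain ⟨l, hlF⟩ := CharP.exists F
  have hl : Fact l.Prime := ⟨CharP.char_is_prime F l⟩
  obtain ⟨w, hw, hw5, hwp, hwq⟩ := exists_w hpp hp5 hσ h1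
  have hwF : Fact w.Prime := ⟨hw⟩
  obtain ⟨v, hv⟩ : ∃ v : Fˣ, orderOf v = w :=
    exists_prime_orderOf_dvd_card' w (by rwa [Nat.card_units, Nat.card_eq_fintype_card])
  have hv2 : v ^ 2 ≠ 1 := by
    intro h
    have := Nat.le_of_dvd (by norm_num) (hv ▸ orderOf_dvd_of_pow_eq_one h)
    omega
  have hv4 : v ^ 4 ≠ 1 := by
    intro h
    have := Nat.le_of_dvd (by norm_num) (hv ▸ orderOf_dvd_of_pow_eq_one h)
    omega
  obtain ⟨a, ha⟩ : ∃ a, σ a ≠ a := by
    by_contra hcon
    push Not at hcon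
    exact h1 (RingEquiv.ext hcon)
  -- the element `y`
  have hdw : (pr (dge v) : P2) ^ w = 1 := by
    have h2 : (dge v : S2) = dgh v := rfl
    rw [← map_pow, h2, ← map_pow, ← hv, pow_orderOf_eq_one, map_one, map_one]
  have hd1 : (pr (dge v) : P2) ≠ 1 := by
    intro h
    rw [← map_one (pr : S2 →* P2)] at h
    rcases pr_eq_iff.1 h with h2 | h2
    · have h3 := congrArg (fun m : S2 => (m : Matrix (Fin 2) (Fin 2) F) 0 0) h2
      simp only [coe_dge, Matrix.SpecialLinearGroup.coe_one, Matrix.one_apply_eq, Matrix.of_apply, Matrix.cons_val',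
        Matrix.cons_val_zero, Matrix.cons_val_fin_one] at h3
      apply hv2
      have : v = 1 := Units.ext h3.symm
      rw [this, one_pow]
    · have h3 := congrArg (fun m : S2 => (m : Matrix (Fin 2) (Fin 2) F) 0 0) h2
      simp only [coe_dge, Matrix.SpecialLinearGroup.coe_neg, Matrix.SpecialLinearGroup.coe_one, Matrix.neg_apply,
        Matrix.one_apply_eq, Matrix.of_apply, Matrix.cons_val',
        Matrix.cons_val_zero, Matrix.cons_val_fin_one] at h3
      apply hv2
      have h4 : (v : F) = -1 := by linear_combination h3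
      apply Units.ext
      rw [Units.val_pow_eq_pow_val, h4, Units.val_one]
      ring
  have how : orderOf (pr (dge v) : P2) = w := orderOf_eq_prime hdw hd1
  set x : MulAut P2 := lift (fld σ) with hx
  have hxpr : ∀ s : S2, x (pr s) = pr (fld σ s) := fun s => lift_pr _ _
  have hsol : Group.IsSolvable ↥(closure ({x, MulAut.conj (pr (dge v))} : Set (MulAut P2))) := by
    set N : Subgroup (MulAut P2) := ((dgh.range : Subgroup S2).map (pr : S2 →* P2)).map MulAut.conj with hN
    have hNs : Group.IsSolvable N := by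
      have h0 : Group.IsSolvable (dgh.range : Subgroup S2) :=
        Group.isSolvable_of_surjective (f := dgh.rangeRestrict) dgh.rangeRestrict_surjective
      have h2 : Group.IsSolvable ↥((dgh.range : Subgroup S2).map (pr : S2 →* P2)) :=
        Cfsg.Agent.SignalizersComponents.ComponentExists.isSolvable_map h0 _
      exact Cfsg.Agent.SignalizersComponents.ComponentExists.isSolvable_map h2 _
    have hmem : ∀ v : Fˣ, MulAut.conj (pr (dge v)) ∈ N := fun v => ⟨_, ⟨_, ⟨v, rfl⟩, rfl⟩, rfl⟩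
    have hinv : ∀ b ∈ zpowers x, ∀ n ∈ N, b * n * b⁻¹ ∈ N := by
      have hgen : ∀ τ : F ≃+* F, ∀ n ∈ N, (lift (fld τ) : MulAut P2) * n * (lift (fld τ) : MulAut P2)⁻¹ ∈ N := by
        rintro τ _ ⟨_, ⟨_, ⟨v, rfl⟩, rfl⟩, rfl⟩
        have h2 : (lift (fld τ) : MulAut P2) * MulAut.conj (pr (dgh v)) * (lift (fld τ) : MulAut P2)⁻¹ =
            MulAut.conj ((lift (fld τ) : MulAut P2) (pr (dgh v))) := by
          ext z
          simp [MulAut.mul_apply, MulAut.conj_apply]
        rw [h2, lift_pr]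
        have h3 : fld τ (dgh v : S2) = dge (Units.map τ.toMonoidHom v) := fld_dge τ v
        rw [h3]
        exact hmem _
      intro b hb n hn
      obtain ⟨k, rfl⟩ := mem_zpowers_iff.1 hb
      have : x ^ k = lift (fld (σ ^ k)) := by rw [map_zpow, map_zpow]
      rw [this]
      exact hgen _ n hn
    have h3 : Group.IsSolvable (N ⊔ zpowers x : Subgroup (MulAut P2)) := by
      refine Cfsg.Agent.SignalizersComponents.CoprimeBasic.isSolvable_sup ?_ hNs inferInstance
      intro b hb
      rw [mem_normalizer_iff]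
      intro n
      constructor
      · exact hinv b hb n
      · intro hn
        have := hinv b⁻¹ ((zpowers x).inv_mem hb) _ hn
        have e1 : b⁻¹ * (b * n * b⁻¹) * b⁻¹⁻¹ = n := by group
        rwa [e1] at this
    have h4 : closure ({x, MulAut.conj (pr (dge v))} : Set (MulAut P2)) ≤ N ⊔ zpowers x := by
      rw [closure_le]
      rintro z (rfl | rfl)
      · exact (le_sup_right : zpowers x ≤ _) (mem_zpowers x)
      · exact (le_sup_left : N ≤ _) (hmem v)
    exact Group.isSolvable_of_isSolvable_injective (f := Subgroup.inclusion h4) (Subgroup.inclusion_injective h4)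
  have hall := hY w hw hwp (pr (dge v)) ⟨1, by rw [how, pow_one]⟩ hsol (pr (ga a))
  obtain ⟨y', hy'⟩ : ∃ y' : P2, pr (ga a) * pr (dge v) * (pr (ga a))⁻¹ = y' := ⟨_, rfl⟩
  rw [hy'] at hall
  have hoy : orderOf y' = w := by
    rw [← hy', ← how]
    exact orderOf_injective (MulAut.conj (pr (ga a) : P2)).toMonoidHom (MulAut.conj _).injective _
  set H := closure ({x, MulAut.conj y'} : Set (MulAut P2)) with hH
  have hxH : x ∈ H := subset_closure (Set.mem_insert _ _)
  set H0 : Subgroup P2 := H.comap (MulAut.conj : P2 →* MulAut P2) with hH0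
  have hyH : y' ∈ H0 := by
    show MulAut.conj y' ∈ H
    exact subset_closure (Set.mem_insert_of_mem _ rfl)
  have hH0s : Group.IsSolvable H0 := by
    have hZ : center P2 = ⊥ := by
      refine Cfsg.Agent.GenExc.center_psl_two ?_
      apply not_isSolvable_psl
      have h5 : w ≤ Fintype.card F - 1 := Nat.le_of_dvd (by
        have : 1 < Fintype.card F := Fintype.one_lt_card
        omega) hwq
      omega
    let f : H0 →* H := ((MulAut.conj : P2 →* MulAut P2).comp H0.subtype).codRestrict H (fun z => z.2)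
    have hf : Function.Injective f := by
      intro z₁ z₂ h
      have h2 : MulAut.conj (z₁ : P2) = MulAut.conj (z₂ : P2) := congrArg Subtype.val h
      exact Subtype.ext (conj_injective hZ h2)
    exact Group.isSolvable_of_isSolvable_injective (f := f) hf
  have hinv : ∀ k ∈ H0, x k ∈ H0 := by
    intro k hk
    show MulAut.conj (x k) ∈ H
    have h2 : MulAut.conj (x k) = x * MulAut.conj k * x⁻¹ := by
      ext z
      simp [MulAut.mul_apply, MulAut.conj_apply]
    rw [h2]
    exact H.mul_mem (H.mul_mem hxH hk) (H.inv_mem hxH)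
  have hd : w ∣ Nat.card H0 := by
    rw [← hoy, ← Subgroup.orderOf_mk _ hyH]
    exact orderOf_dvd_natCard _
  rcases shape (l := l) H0 hH0s hw (by omega) hd with ⟨Q, hQ1, hQH, hQl, hQn, hQa⟩ | ⟨A, hAH, hAc, hA1, hA2⟩
  · obtain ⟨g, hg1, hg⟩ := exists_borel hQ1 hQl
    obtain ⟨b, hb, hyb⟩ := hg _ (hQn _ hyH)
    -- the fixed line of `y'`
    have h2 : (pr (dge v) : P2) = pr (((ga a)⁻¹ * g) * b * ((ga a)⁻¹ * g)⁻¹) := by
      have h3 : (pr (dge v) : P2) = (pr (ga a))⁻¹ * y' * pr (ga a) := by rw [← hy']; group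
      rw [h3, hyb]
      simp only [map_mul, map_inv]
      group
    have h3 := eig_dge hv2 hb h2
    -- the line is `σ`-invariant
    obtain ⟨a1, ha1, ha1'⟩ : ∃ a ∈ Q, a ≠ 1 := by
      by_contra hcon
      push Not at hcon
      exact hQ1 ((Subgroup.eq_bot_iff_forall _).2 hcon)
    obtain ⟨c, hc⟩ := hg1 a1 ha1
    have hc0 : c ≠ 0 := by
      rintro rfl
      apply ha1'
      rw [hc, u_zero, mul_one, mul_inv_cancel, map_one]
    have hxa : x a1 ∈ Q := by
      apply hQa _ (hinv _ (hQH ha1))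
      obtain ⟨k, hk⟩ := hQl ⟨a1, ha1⟩
      refine ⟨k, ?_⟩
      rw [← map_pow]
      have : a1 ^ l ^ k = 1 := congrArg Subtype.val hk
      rw [this, map_one]
    obtain ⟨d, hd'⟩ := hg1 _ hxa
    have h4 : (g⁻¹ * fld σ g : S2) 1 0 = 0 := by
      refine tri (c := σ c) (d := d) ((map_ne_zero σ).2 hc0) ?_
      have h5 : (pr (g⁻¹ * fld σ g * u (σ c) * (g⁻¹ * fld σ g)⁻¹) : P2) = (pr g)⁻¹ * x a1 * pr g := by
        rw [hc, hxpr]
        simp only [map_mul, map_inv, fld_u]
        group
      rw [h5, hd']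
      simp only [map_mul, map_inv]
      group
    -- coordinates
    obtain ⟨g0, hg0⟩ : ∃ m : Matrix (Fin 2) (Fin 2) F, (g : Matrix (Fin 2) (Fin 2) F) = m := ⟨_, rfl⟩
    have hdet : g0 0 0 * g0 1 1 - g0 0 1 * g0 1 0 = 1 := by
      rw [← hg0, ← Matrix.det_fin_two, Matrix.SpecialLinearGroup.det_coe]
    have h5 : g0 0 0 * σ (g0 1 0) - g0 1 0 * σ (g0 0 0) = 0 := by
      have h6 : ((g⁻¹ * fld σ g : S2) : Matrix (Fin 2) (Fin 2) F) 1 0 = 0 := h4
      rw [Matrix.SpecialLinearGroup.coe_mul, Matrix.SpecialLinearGroup.coe_inv, Matrix.adjugate_fin_two,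
        Matrix.mul_apply, Fin.sum_univ_two, coe_fld_apply, coe_fld_apply] at h6
      simp only [Matrix.of_apply, Matrix.cons_val', Matrix.cons_val_zero, Matrix.cons_val_one,
        Matrix.cons_val_fin_one] at h6
      rw [hg0] at h6
      linear_combination h6
    have h6 : g0 0 0 = a * g0 1 0 ∨ g0 0 0 = (a - 1) * g0 1 0 := by
      rw [Matrix.SpecialLinearGroup.coe_mul, Matrix.SpecialLinearGroup.coe_inv, Matrix.adjugate_fin_two, coe_ga] at h3
      simp only [Matrix.mul_apply, Fin.sum_univ_two, Matrix.of_apply, Matrix.cons_val', Matrix.cons_val_zero,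
        Matrix.cons_val_one, Matrix.cons_val_fin_one] at h3
      rw [hg0] at h3
      rcases h3 with h3 | h3
      · right
        linear_combination h3
      · left
        linear_combination -h3
    have h7 : g0 1 0 ≠ 0 := by
      intro h8
      have h9 : g0 0 0 = 0 := by
        rcases h6 with h6 | h6
        · rw [h6, h8, mul_zero]
        · rw [h6, h8, mul_zero]
      rw [h8, h9] at hdet
      simp at hdet
    have h8 : σ (g0 1 0) ≠ 0 := (map_ne_zero σ).2 h7
    rcases h6 with h6 | h6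
    · rw [h6, map_mul] at h5
      have h9 : (g0 1 0 * σ (g0 1 0)) * (a - σ a) = 0 := by linear_combination h5
      rcases mul_eq_zero.1 h9 with h10 | h10
      · exact (mul_ne_zero h7 h8) h10
      · exact ha (by linear_combination -h10)
    · rw [h6, map_mul, map_sub, map_one] at h5
      have h9 : (g0 1 0 * σ (g0 1 0)) * (a - σ a) = 0 := by linear_combination h5
      rcases mul_eq_zero.1 h9 with h10 | h10
      · exact (mul_ne_zero h7 h8) h10
      · exact ha (by linear_combination -h10)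
  · have hy2 : y' ^ 2 ≠ 1 := by
      intro h
      have := Nat.le_of_dvd (by norm_num) (hoy ▸ orderOf_dvd_of_pow_eq_one h)
      omega
    have hyx2 : (x y') ^ 2 ≠ 1 := by
      intro h
      rw [← map_pow] at h
      exact hy2 (x.injective (by rw [h, map_one]))
    have hcomm := hAc _ (hA1 _ hyH hy2) _ (hA1 _ (hinv _ hyH) hyx2)
    -- the matrices
    obtain ⟨vs, hvs⟩ : ∃ vs : Fˣ, Units.map σ.toMonoidHom v = vs := ⟨_, rfl⟩
    have hvs2 : (vs : F) ^ 2 ≠ 1 := by
      intro h
      rw [← hvs] at h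
      have h2 : σ ((v : F) ^ 2) = 1 := by rw [map_pow]; exact h
      have h3 : (v : F) ^ 2 = 1 := σ.injective (by rw [h2, map_one])
      exact hv2 (Units.ext (by rw [Units.val_pow_eq_pow_val, h3, Units.val_one]))
    obtain ⟨m, hm⟩ : ∃ m : S2, ((ga a)⁻¹ * ga (σ a)) * dge vs * ((ga a)⁻¹ * ga (σ a))⁻¹ = m := ⟨_, rfl⟩
    have hc2 : (pr (dge v) : P2) * pr m = pr m * pr (dge v) := by
      have e1 : (pr (dge v) : P2) = (pr (ga a))⁻¹ * y' * pr (ga a) := by rw [← hy']; group
      have e2 : (pr m : P2) = (pr (ga a))⁻¹ * x y' * pr (ga a) := by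
        rw [← hm, ← hy']
        simp only [map_mul, map_inv, hxpr, fld_ga, fld_dge, hvs]
        group
      rw [e1, e2]
      have e3 : (pr (ga a))⁻¹ * y' * pr (ga a) * ((pr (ga a))⁻¹ * x y' * pr (ga a)) =
          (pr (ga a))⁻¹ * (y' * x y') * pr (ga a) := by group
      have e4 : (pr (ga a))⁻¹ * x y' * pr (ga a) * ((pr (ga a))⁻¹ * y' * pr (ga a)) =
          (pr (ga a))⁻¹ * (x y' * y') * pr (ga a) := by group
      rw [e3, e4, hcomm]
    obtain ⟨δ, hδ⟩ : ∃ δ, σ a - a = δ := ⟨_, rfl⟩
    have hδ0 : δ ≠ 0 := by rw [← hδ]; exact sub_ne_zero.2 ha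
    have hvv : (vs : F) * ((vs⁻¹ : Fˣ) : F) = 1 := by rw [← Units.val_mul, mul_inv_cancel, Units.val_one]
    have hmc : (m : Matrix (Fin 2) (Fin 2) F) 0 1 = (1 + δ) * δ * (((vs⁻¹ : Fˣ) : F) - vs) ∧
        (m : Matrix (Fin 2) (Fin 2) F) 1 0 = -(δ * (1 - δ)) * ((vs : F) - ((vs⁻¹ : Fˣ) : F)) := by
      rw [← hm, Matrix.SpecialLinearGroup.coe_mul, Matrix.SpecialLinearGroup.coe_mul, Matrix.SpecialLinearGroup.coe_inv,
        Matrix.adjugate_fin_two, coe_hh, coe_dge, hδ]
      simp only [Matrix.mul_apply, Fin.sum_univ_two, Matrix.of_apply, Matrix.cons_val', Matrix.cons_val_zero,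
        Matrix.cons_val_one, Matrix.cons_val_fin_one]
      constructor
      · ring
      · ring
    have hvne : (vs : F) - ((vs⁻¹ : Fˣ) : F) ≠ 0 := by
      intro h
      apply hvs2
      linear_combination (vs : F) * h + hvv
    have hvi : (v : F) * ((v⁻¹ : Fˣ) : F) = 1 := by rw [← Units.val_mul, mul_inv_cancel, Units.val_one]
    have hvF : (v : F) - ((v⁻¹ : Fˣ) : F) ≠ 0 := by
      intro h
      apply hv2
      apply Units.ext
      rw [Units.val_pow_eq_pow_val, Units.val_one]
      linear_combination (v : F) * h + hvi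
    have hvF4 : (v : F) + ((v⁻¹ : Fˣ) : F) ≠ 0 := by
      intro h
      apply hv4
      apply Units.ext
      rw [Units.val_pow_eq_pow_val, Units.val_one]
      have h5 : (v : F) ^ 2 = -1 := by linear_combination (v : F) * h - hvi
      linear_combination ((v : F) ^ 2 - 1) * h5
    have hoff : (m : Matrix (Fin 2) (Fin 2) F) 0 1 = 0 ∧ (m : Matrix (Fin 2) (Fin 2) F) 1 0 = 0 := by
      rcases comm_or hc2 with h2 | h2
      · have h3 := congrArg (fun m : S2 => (m : Matrix (Fin 2) (Fin 2) F) 0 1) h2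
        have h4 := congrArg (fun m : S2 => (m : Matrix (Fin 2) (Fin 2) F) 1 0) h2
        simp only [Matrix.SpecialLinearGroup.coe_mul, coe_dge, Matrix.mul_apply, Fin.sum_univ_two,
          Matrix.of_apply, Matrix.cons_val', Matrix.cons_val_zero, Matrix.cons_val_one,
          Matrix.cons_val_fin_one] at h3 h4
        constructor
        · have h5 : ((v : F) - ((v⁻¹ : Fˣ) : F)) * (m : Matrix (Fin 2) (Fin 2) F) 0 1 = 0 := by
            linear_combination h3
          exact (mul_eq_zero.1 h5).resolve_left hvF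
        · have h5 : ((v : F) - ((v⁻¹ : Fˣ) : F)) * (m : Matrix (Fin 2) (Fin 2) F) 1 0 = 0 := by
            linear_combination -h4
          exact (mul_eq_zero.1 h5).resolve_left hvF
      · have h3 := congrFun (congrFun h2 0) 1
        have h4 := congrFun (congrFun h2 1) 0
        simp only [coe_dge, Matrix.mul_apply, Fin.sum_univ_two, Matrix.neg_apply,
          Matrix.of_apply, Matrix.cons_val', Matrix.cons_val_zero, Matrix.cons_val_one,
          Matrix.cons_val_fin_one] at h3 h4
        constructor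
        · have h5 : ((v : F) + ((v⁻¹ : Fˣ) : F)) * (m : Matrix (Fin 2) (Fin 2) F) 0 1 = 0 := by
            linear_combination h3
          exact (mul_eq_zero.1 h5).resolve_left hvF4
        · have h5 : ((v : F) + ((v⁻¹ : Fˣ) : F)) * (m : Matrix (Fin 2) (Fin 2) F) 1 0 = 0 := by
            linear_combination h4
          exact (mul_eq_zero.1 h5).resolve_left hvF4
    rw [hmc.1, hmc.2] at hoff
    have h2 : δ = -1 := by
      have h3 : (1 + δ) = 0 := by
        rcases mul_eq_zero.1 hoff.1 with h | h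
        · exact (mul_eq_zero.1 h).resolve_right hδ0
        · exact absurd (by linear_combination -h) hvne
      linear_combination h3
    have h3 : δ = 1 := by
      have h4 : δ * (1 - δ) * ((vs : F) - ((vs⁻¹ : Fˣ) : F)) = 0 := by linear_combination -hoff.2
      have h5 := (mul_eq_zero.1 h4).resolve_right hvne
      have h6 := (mul_eq_zero.1 h5).resolve_left hδ0
      linear_combination -h6
    have h22 : (2 : F) = 0 := by linear_combination h3.symm.trans h2
    have h4 : σ a = a + 1 := by linear_combination hδ + h3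
    have h5 : ∀ n : ℕ, (σ ^ n) a = a + n := by
      intro n
      induction n with
      | zero => simp
      | succ n ih =>
        rw [pow_succ', RingAut.mul_apply, ih, map_add, map_natCast, h4]
        push_cast
        ring
    have h6 := h5 p
    rw [hσ, RingAut.one_apply] at h6
    have h7 : (p : F) = 0 := by linear_combination -h6
    obtain ⟨k, hk⟩ := hpp.odd_of_ne_two (by omega)
    rw [hk] at h7
    push_cast at h7
    rw [h22] at h7
    simp at h7

end Fld

end Cfsg.Agent.H947.Sy
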